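import Mathlib
import Cfsg.Agent.Lib.Helper1.BG14.SigmaATIc
import Cfsg.Agent.Lib.Helper1.BG14.KappaCyc
import Cfsg.Agent.Lib.Helper1.BG14b.Fusion
import Cfsg.Agent.Lib.Helper1.BG14b.SupportR
import Cfsg.Agent.Lib.Helper10.TypeP
import Cfsg.Prelude.Def_OddOrderChar

set_option autoImplicit false

namespace Cfsg.Agent.Lib.Helper1.PF8

open Cfsg Cfsg.Agent.Lib.Helper18 Cfsg.Agent.Lib.Helper28.BGt
open Cfsg.Agent.Lib.Helper1.BG12b Cfsg.Agent.Lib.Helper1.BG14 Cfsg.Agent.Lib.Helper1.BG14b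

variable {G : Type*} [Group G] [Finite G]

theorem le_normalizer_of_invariant {M : Subgroup G} {X : Set G}
    (hinv : ∀ m ∈ M, ∀ a ∈ X, m * a * m⁻¹ ∈ X) : M ≤ Subgroup.normalizer X := by
  intro m hm
  rw [Subgroup.mem_set_normalizer_iff]
  intro h
  constructor
  · exact hinv m hm h
  · intro h1
    have h2 := hinv m⁻¹ (M.inv_mem hm) _ h1
    have : m⁻¹ * (m * h * m⁻¹) * m⁻¹⁻¹ = h := by group
    rwa [this] at h2

theorem normalizer_eq_of_invariant (hG : Cfsg.IsMinSimpleOddOrder G) {M : Subgroup G}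
    (hM : IsCoatom M) {X : Set G} (hXM : X ⊆ (M : Set G)) (hne : X.Nonempty)
    (h1 : (1 : G) ∉ X) (hinv : ∀ m ∈ M, ∀ a ∈ X, m * a * m⁻¹ ∈ X) :
    Subgroup.normalizer X = M := by
  have hle : M ≤ Subgroup.normalizer X := le_normalizer_of_invariant hinv
  have hcl : Subgroup.closure X ≤ M := (Subgroup.closure_le M).mpr hXM
  have hT1 : Subgroup.closure X ≠ ⊥ := by
    intro h
    obtain ⟨a, ha⟩ := hne
    have : a ∈ (⊥ : Subgroup G) := by rw [← h]; exact Subgroup.subset_closure ha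
    rw [Subgroup.mem_bot] at this
    exact h1 (this ▸ ha)
  have hT2 : Subgroup.closure X ≠ ⊤ := by
    intro h
    apply hM.1
    rw [eq_top_iff, ← h]
    exact hcl
  have hNN : Subgroup.normalizer X ≤ Subgroup.normalizer ((Subgroup.closure X : Subgroup G) : Set G) := by
    intro g hg
    rw [Subgroup.mem_set_normalizer_iff] at hg
    apply mem_normalizer_of_conjSub_le
    show Subgroup.map _ _ ≤ _
    rw [MonoidHom.map_closure, Subgroup.closure_le]
    rintro _ ⟨a, ha, rfl⟩
    apply Subgroup.subset_closure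
    exact (hg a).mp ha
  have hN := Cfsg.Agent.Lib.Helper11.MaxSubB.normalizer_eq_of_coatom hG M hM _ hT1 hT2
    (hle.trans hNN)
  apply le_antisymm _ hle
  rw [← hN]
  exact hNN

theorem supportR_le_centralizer' (M : Subgroup G) (a : G) :
    Cfsg.supportR M a ≤ Subgroup.centralizer ({a} : Set G) := by
  unfold Cfsg.supportR
  split_ifs with h
  · exact inf_le_right
  · exact bot_le

theorem supportR_conj_mem' (M : Subgroup G) (a : G) {c u : G}
    (hc : c ∈ Subgroup.centralizer ({a} : Set G)) (hu : u ∈ Cfsg.supportR M a) :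
    c * u * c⁻¹ ∈ Cfsg.supportR M a := by
  unfold Cfsg.supportR at hu ⊢
  split_ifs with h
  · rw [dif_pos h] at hu
    have hch := Classical.choose_spec h.2.exists
    refine ⟨?_, ?_⟩
    · exact conj_mem_of_le_normalizer
        (Cfsg.Agent.Lib.Helper10.le_normalizer_fittingHallOf _) (hch.2 hc) hu.1
    · exact Subgroup.mul_mem _ (Subgroup.mul_mem _ hc hu.2) (Subgroup.inv_mem _ hc)
  · rw [dif_neg h] at hu
    rw [Subgroup.mem_bot] at hu
    subst hu
    simp

end Cfsg.Agent.Lib.Helper1.PF8
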