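import Mathlib
import Cfsg.Agent.Lib.Helper1.PF8.DadeA
import Cfsg.Agent.Lib.Helper10.Sec16B
import Cfsg.Agent.S1370
import Cfsg.Agent.S1371

set_option autoImplicit false

namespace Cfsg.Agent.Lib.Helper1.PF8

open Cfsg Cfsg.Agent.Lib.Helper18 Cfsg.Agent.Lib.Helper28.BGt
open Cfsg.Agent.Lib.Helper1.BG12b Cfsg.Agent.Lib.Helper1.BG14 Cfsg.Agent.Lib.Helper1.BG14b

variable {G : Type*} [Group G] [Finite G]

theorem USigma_le {M K U : Subgroup G} (hKU : Cfsg.IsSigmaDecomposition M K U) :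
    U ⊔ Cfsg.sigmaCore M ≤ M :=
  sup_le hKU.compl.1 (sigmaCore_le M)

theorem Hκ_of (hG : Cfsg.IsMinSimpleOddOrder G) {M K U : Subgroup G} (hM : IsCoatom M)
    (hKU : Cfsg.IsSigmaDecomposition M K U) : ∀ p ∈ Cfsg.kappa M, p ∈ Cfsg.tau1 M :=
  kappa_sub_tau1_of_cyclic hG hM hKU.hall hKU.cyclic

theorem relIndex_USigma (hG : Cfsg.IsMinSimpleOddOrder G) {M K U : Subgroup G} (hM : IsCoatom M)
    (hKU : Cfsg.IsSigmaDecomposition M K U) :
    (U ⊔ Cfsg.sigmaCore M).relIndex M = Nat.card K := by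
  have hcard := Cfsg.Agent.Lib.Helper10.Sec16.card_M_eq hG hM hKU
  have h : Nat.card ↥(U ⊔ Cfsg.sigmaCore M) * (U ⊔ Cfsg.sigmaCore M).relIndex M = Nat.card ↥M := by
    have := Subgroup.relIndex_mul_relIndex ⊥ (U ⊔ Cfsg.sigmaCore M) M bot_le (USigma_le hKU)
    rwa [Subgroup.relIndex_bot_left, Subgroup.relIndex_bot_left] at this
  have hpos : 0 < Nat.card ↥(U ⊔ Cfsg.sigmaCore M) := Nat.card_pos
  rw [← hcard] at h
  exact Nat.eq_of_mul_eq_mul_left hpos h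

theorem coprime_USigma_K (hG : Cfsg.IsMinSimpleOddOrder G) {M K U : Subgroup G} (hM : IsCoatom M)
    (hKU : Cfsg.IsSigmaDecomposition M K U) :
    (Nat.card ↥(U ⊔ Cfsg.sigmaCore M)).Coprime (Nat.card K) := by
  have hcard := Cfsg.Agent.Lib.Helper10.Sec16.card_M_eq hG hM hKU
  have hrel : K.relIndex M = Nat.card ↥(U ⊔ Cfsg.sigmaCore M) := by
    have h : Nat.card ↥K * K.relIndex M = Nat.card ↥M := by
      have := Subgroup.relIndex_mul_relIndex ⊥ K M bot_le hKU.hall.1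
      rwa [Subgroup.relIndex_bot_left, Subgroup.relIndex_bot_left] at this
    have hKpos : 0 < Nat.card K := Nat.card_pos
    rw [← hcard, mul_comm] at h
    exact Nat.eq_of_mul_eq_mul_right hKpos h
  rw [← hrel]
  exact (Cfsg.Agent.Lib.Helper10.Sec16.K_hall_coprime hKU.hall).symm

theorem orderOf_conj' (g a : G) : orderOf (g * a * g⁻¹) = orderOf a := by
  have := orderOf_injective (MulAut.conj g).toMonoidHom (MulAut.conj g).injective a
  simpa [MulAut.conj_apply] using this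

theorem mem_USigma_of_conj (hG : Cfsg.IsMinSimpleOddOrder G) {M K U : Subgroup G} (hM : IsCoatom M)
    (hKU : Cfsg.IsSigmaDecomposition M K U) {a g : G} (ha : a ∈ U ⊔ Cfsg.sigmaCore M)
    (hga : g * a * g⁻¹ ∈ M) : g * a * g⁻¹ ∈ U ⊔ Cfsg.sigmaCore M := by
  have hN := decomp_normal hG hM (Hκ_of hG hM hKU) hKU
  have hle : Subgroup.zpowers (g * a * g⁻¹) ≤ U ⊔ Cfsg.sigmaCore M := by
    apply le_of_coprime_relIndex (USigma_le hKU) (Subgroup.zpowers_le.mpr hga) hN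
    rw [Nat.card_zpowers, orderOf_conj', relIndex_USigma hG hM hKU]
    exact Nat.Coprime.coprime_dvd_left (Subgroup.orderOf_dvd_natCard _ ha)
      (coprime_USigma_K hG hM hKU)
  exact hle (Subgroup.mem_zpowers _)

theorem sigmaHat_conj_mem {M : Subgroup G} {m a : G} (hm : m ∈ M) (ha : a ∈ Cfsg.sigmaHat M) :
    m * a * m⁻¹ ∈ Cfsg.sigmaHat M := by
  obtain ⟨haM, y, hy, hy1, hay⟩ := ha
  refine ⟨M.mul_mem (M.mul_mem hm haM) (M.inv_mem hm), m * y * m⁻¹, ?_, ?_, ?_⟩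
  · exact conj_mem_of_le_normalizer (le_normalizer_sigmaCore M) hm hy
  · intro h1
    apply hy1
    have : y = m⁻¹ * (m * y * m⁻¹) * m := by group
    rw [this, h1]; group
  · calc m * a * m⁻¹ * (m * y * m⁻¹) = m * (a * y) * m⁻¹ := by group
      _ = m * (y * a) * m⁻¹ := by rw [hay]
      _ = m * y * m⁻¹ * (m * a * m⁻¹) := by group

theorem sigmaA_conj_mem (hG : Cfsg.IsMinSimpleOddOrder G) {M K U : Subgroup G} (hM : IsCoatom M)
    (hKU : Cfsg.IsSigmaDecomposition M K U) {m a : G} (hm : m ∈ M) (ha : a ∈ Cfsg.sigmaA M U) :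
    m * a * m⁻¹ ∈ Cfsg.sigmaA M U := by
  refine ⟨sigmaHat_conj_mem hm ha.1, ?_⟩
  exact conj_mem_of_le_normalizer (decomp_normal hG hM (Hκ_of hG hM hKU) hKU) hm ha.2

theorem sigmaA0_conj_mem {M K : Subgroup G} {m a : G} (hm : m ∈ M) (ha : a ∈ Cfsg.sigmaA0 M K) :
    m * a * m⁻¹ ∈ Cfsg.sigmaA0 M K := by
  refine ⟨sigmaHat_conj_mem hm ha.1, ?_⟩
  rintro ⟨k, hk, hk1, n, hn, e⟩
  apply ha.2
  refine ⟨k, hk, hk1, m⁻¹ * n, M.mul_mem (M.inv_mem hm) hn, ?_⟩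
  have : a = m⁻¹ * (m * a * m⁻¹) * m := by group
  rw [this, e]; group

theorem conj_mem_iff_of_invariant {M : Subgroup G} {X : Set G}
    (hinv : ∀ m ∈ M, ∀ a ∈ X, m * a * m⁻¹ ∈ X) {m a : G} (hm : m ∈ M) :
    m * a * m⁻¹ ∈ X ↔ a ∈ X := by
  constructor
  · intro h
    have h2 := hinv m⁻¹ (M.inv_mem hm) _ h
    have : m⁻¹ * (m * a * m⁻¹) * m⁻¹⁻¹ = a := by group
    rwa [this] at h2
  · exact hinv m hm a

theorem sigmaCore_ne_bot' (hG : Cfsg.IsMinSimpleOddOrder G) {M : Subgroup G} (hM : IsCoatom M) :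
    ∃ y ∈ Cfsg.sigmaCore M, y ≠ 1 := by
  have h := Cfsg.Agent.Lib.Helper1.BG12.sigmaCore_ne_bot hG M hM
  obtain ⟨y, hy1⟩ := (Subgroup.ne_bot_iff_exists_ne_one).mp h
  exact ⟨y, y.2, fun h => hy1 (Subtype.ext h)⟩

end Cfsg.Agent.Lib.Helper1.PF8
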