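import Mathlib
import Cfsg.Agent.Lib.Helper1.PF8.DadeB

set_option autoImplicit false

namespace Cfsg.Agent.Lib.Helper1.PF8

open Cfsg Cfsg.Agent.Lib.Helper18 Cfsg.Agent.Lib.Helper28.BGt
open Cfsg.Agent.Lib.Helper1.BG12b Cfsg.Agent.Lib.Helper1.BG14 Cfsg.Agent.Lib.Helper1.BG14b

variable {G : Type*} [Group G] [Finite G]

theorem USigma_eq_of_K_bot {M K U : Subgroup G} (hKU : Cfsg.IsSigmaDecomposition M K U)
    (hK : K = ⊥) : U ⊔ Cfsg.sigmaCore M = M := by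
  apply le_antisymm (USigma_le hKU)
  intro m hm
  obtain ⟨u, hu, b, hb, rfl⟩ := hKU.compl.2.2.2 m hm
  rw [hK, bot_sup_eq] at hb
  exact Subgroup.mul_mem _ (Subgroup.mem_sup_left hu) (Subgroup.mem_sup_right hb)

theorem K_ne_bot_of_not_mem_sigmaA {M K U : Subgroup G}
    (hKU : Cfsg.IsSigmaDecomposition M K U) {a : G} (ha : a ∈ Cfsg.sigmaA0 M K)
    (hn : a ∉ Cfsg.sigmaA M U) : K ≠ ⊥ := by
  intro hK
  apply hn
  refine ⟨ha.1, ?_⟩
  rw [SetLike.mem_coe, USigma_eq_of_K_bot hKU hK]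
  exact ha.1.1

theorem cent_le_of_sigmaA (hG : Cfsg.IsMinSimpleOddOrder G) {M K U : Subgroup G} (hM : IsCoatom M)
    (hKU : Cfsg.IsSigmaDecomposition M K U) {a : G} (ha : a ∈ Cfsg.sigmaA M U)
    (hn : a ∉ Cfsg.sigmaCore M) : Subgroup.centralizer ({a} : Set G) ≤ M := by
  obtain ⟨⟨haM, y, hy, hy1, hay⟩, haW⟩ := ha
  obtain ⟨k, hk1, hk2⟩ := exists_sigma_prime_part hG hM haM hn
  have hz1 : a ^ k ≠ 1 := by
    intro h
    apply hk1
    rw [h]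
    exact Subgroup.one_mem _
  have hzy : a ^ k * y = y * a ^ k := by
    have hc : Commute a y := hay
    exact (hc.pow_left k).eq
  have hu := cent_unique_of_sigma' hG hM hKU (Subgroup.pow_mem _ haW k) hz1 hk2 hy hy1 hzy
  have hsimple : IsSimpleGroup G := hG.2.1
  have hne : Subgroup.centralizer ({a ^ k} : Set G) ≠ ⊤ :=
    Cfsg.Agent.Lib.Helper11.centralizer_singleton_ne_top hG.2.2.1 hz1
  obtain ⟨L, hL, hCL⟩ := (eq_top_or_exists_le_coatom _).resolve_left hne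
  have hLM := hu L hL hCL
  rw [hLM] at hCL
  refine le_trans ?_ hCL
  intro c hc
  rw [Subgroup.mem_centralizer_singleton_iff] at hc ⊢
  have hcc : Commute c a := hc
  exact (hcc.pow_right k).eq

theorem exists_Zhat_of_not_mem_sigmaA (hG : Cfsg.IsMinSimpleOddOrder G) {M K U : Subgroup G}
    (hM : IsCoatom M) (hKU : Cfsg.IsSigmaDecomposition M K U) {a : G}
    (ha : a ∈ Cfsg.sigmaA0 M K) (hn : a ∉ Cfsg.sigmaA M U) :
    ∃ m ∈ M, ∃ z ∈ ((↑(K ⊔ (Cfsg.sigmaCore M ⊓ Subgroup.centralizer (K : Set G))) : Set G) \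
      ((K : Set G) ∪ ↑(Cfsg.sigmaCore M ⊓ Subgroup.centralizer (K : Set G)))), a = m * z * m⁻¹ := by
  have hK1 := K_ne_bot_of_not_mem_sigmaA hKU ha hn
  have h := (Cfsg.Agent.S1371.result hG M hM K U hKU hK1).1
  have h2 : a ∈ Cfsg.sigmaA0 M K \ Cfsg.sigmaA M U := ⟨ha, hn⟩
  rw [← h] at h2
  exact h2

theorem cent_le_of_not_sigmaA (hG : Cfsg.IsMinSimpleOddOrder G) {M K U : Subgroup G}
    (hM : IsCoatom M) (hKU : Cfsg.IsSigmaDecomposition M K U) {a : G}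
    (ha : a ∈ Cfsg.sigmaA0 M K) (hn : a ∉ Cfsg.sigmaA M U) :
    Subgroup.centralizer ({a} : Set G) ≤ M := by
  have hK1 := K_ne_bot_of_not_mem_sigmaA hKU ha hn
  obtain ⟨m, hm, z, hz, rfl⟩ := exists_Zhat_of_not_mem_sigmaA hG hM hKU ha hn
  obtain ⟨hTI, hN⟩ := Cfsg.Agent.S1370.result hG M hM K U hKU hK1
  have hZM : K ⊔ (Cfsg.sigmaCore M ⊓ Subgroup.centralizer (K : Set G)) ≤ M :=
    sup_le hKU.hall.1 (inf_le_left.trans (sigmaCore_le M))
  have hz1 : z ≠ 1 := by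
    rintro rfl
    exact hz.2 (Or.inl (Subgroup.one_mem _))
  intro c hc
  rw [Subgroup.mem_centralizer_singleton_iff] at hc
  have hc' : (m⁻¹ * c * m) * z * (m⁻¹ * c * m)⁻¹ = z := by
    have : (m⁻¹ * c * m) * z * (m⁻¹ * c * m)⁻¹ = m⁻¹ * (c * (m * z * m⁻¹)) * c⁻¹ * m := by group
    rw [this, hc]; group
  have hmem : m⁻¹ * c * m ∈ K ⊔ (Cfsg.sigmaCore M ⊓ Subgroup.centralizer (K : Set G)) := by
    rw [← hN]
    by_contra hcon
    apply hz1
    apply hTI _ hcon z hz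
    rw [hc']
    exact hz
  have h3 := hZM hmem
  have : c = m * (m⁻¹ * c * m) * m⁻¹ := by group
  rw [this]
  exact M.mul_mem (M.mul_mem hm h3) (M.inv_mem hm)

theorem cent_le_of_not_sigmaCore (hG : Cfsg.IsMinSimpleOddOrder G) {M K U : Subgroup G}
    (hM : IsCoatom M) (hKU : Cfsg.IsSigmaDecomposition M K U) {a : G}
    (ha : a ∈ Cfsg.sigmaA0 M K) (hn : a ∉ Cfsg.sigmaCore M) :
    Subgroup.centralizer ({a} : Set G) ≤ M := by
  by_cases h : a ∈ Cfsg.sigmaA M U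
  · exact cent_le_of_sigmaA hG hM hKU h hn
  · exact cent_le_of_not_sigmaA hG hM hKU ha h

end Cfsg.Agent.Lib.Helper1.PF8
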