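import Mathlib
import Cfsg.Agent.Lib.Helper1.PF8.DadeC

set_option autoImplicit false

namespace Cfsg.Agent.Lib.Helper1.PF8

open Cfsg Cfsg.Agent.Lib.Helper18 Cfsg.Agent.Lib.Helper28.BGt
open Cfsg.Agent.Lib.Helper1.BG12b Cfsg.Agent.Lib.Helper1.BG14 Cfsg.Agent.Lib.Helper1.BG14b

variable {G : Type*} [Group G] [Finite G]

theorem mem_sigmaCore_of_conj (hG : Cfsg.IsMinSimpleOddOrder G) {M : Subgroup G} (hM : IsCoatom M)
    {a g : G} (haM : a ∈ M) (hga : g * a * g⁻¹ ∈ Cfsg.sigmaCore M) : a ∈ Cfsg.sigmaCore M := by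
  apply sigma_elt_mem hG hM haM
  intro q hq hqd
  rw [← orderOf_conj' g a] at hqd
  exact prime_sigmaCore hG hM hq (hqd.trans (Subgroup.orderOf_dvd_natCard _ hga))

theorem one_mem_sigmaA (hG : Cfsg.IsMinSimpleOddOrder G) {M : Subgroup G} (hM : IsCoatom M)
    (U : Subgroup G) : (1 : G) ∈ Cfsg.sigmaA M U := by
  obtain ⟨y, hy, hy1⟩ := sigmaCore_ne_bot' hG hM
  exact ⟨⟨M.one_mem, y, hy, hy1, by simp⟩, Subgroup.one_mem _⟩

theorem fusion_sigmaA0 (hG : Cfsg.IsMinSimpleOddOrder G) {M K U : Subgroup G} (hM : IsCoatom M)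
    (hKU : Cfsg.IsSigmaDecomposition M K U) {a g : G} (ha : a ∈ Cfsg.sigmaA0 M K) (ha1 : a ≠ 1)
    (hga : g * a * g⁻¹ ∈ Cfsg.sigmaA0 M K) : ∃ m ∈ M, m * a * m⁻¹ = g * a * g⁻¹ := by
  have haM : a ∈ M := ha.1.1
  have hgaM : g * a * g⁻¹ ∈ M := hga.1.1
  have Hκ := Hκ_of hG hM hKU
  by_cases hs : a ∈ Cfsg.sigmaCore M
  · obtain ⟨m, hm, b, hb, rfl⟩ := fusion_decomp hG hM hs ha1 hgaM
    refine ⟨m, hm, ?_⟩
    have hbc := supportR_le_centralizer' M a hb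
    rw [Subgroup.mem_centralizer_singleton_iff] at hbc
    have : m * b * a * (m * b)⁻¹ = m * (b * a) * b⁻¹ * m⁻¹ := by group
    rw [this, hbc]; group
  · have hs' : g * a * g⁻¹ ∉ Cfsg.sigmaCore M := fun h => hs (mem_sigmaCore_of_conj hG hM haM h)
    by_cases hA : a ∈ Cfsg.sigmaA M U
    · have hA' : g * a * g⁻¹ ∈ Cfsg.sigmaA M U :=
        ⟨hga.1, mem_USigma_of_conj hG hM hKU hA.2 hgaM⟩
      refine ⟨g, ?_, rfl⟩
      have hX : a ∈ Cfsg.sigmaA M U \ (Cfsg.sigmaCore M : Set G) := ⟨hA, hs⟩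
      have hinv : ∀ m ∈ M, ∀ x ∈ Cfsg.sigmaA M U \ (Cfsg.sigmaCore M : Set G),
          m * x * m⁻¹ ∈ Cfsg.sigmaA M U \ (Cfsg.sigmaCore M : Set G) := by
        intro m hm x hx
        have := le_normalizer_sigmaA_diff hG hM Hκ hKU hm
        rw [Subgroup.mem_set_normalizer_iff] at this
        exact (this x).mp hx
      have hN := normalizer_eq_of_invariant hG hM (X := Cfsg.sigmaA M U \ (Cfsg.sigmaCore M : Set G))
        (fun x hx => hx.1.1.1) ⟨a, hX⟩ (fun h => h.2 (Subgroup.one_mem _)) hinv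
      rw [← hN]
      by_contra hcon
      exact ha1 (sigmaA_diff_TI hG hM Hκ hKU g hcon a hX ⟨hA', hs'⟩)
    · have hA' : g * a * g⁻¹ ∉ Cfsg.sigmaA M U := by
        intro h
        apply hA
        refine ⟨ha.1, ?_⟩
        have h2 := mem_USigma_of_conj hG hM hKU (g := g⁻¹) h.2 (by
          have : g⁻¹ * (g * a * g⁻¹) * g⁻¹⁻¹ = a := by group
          rw [this]; exact haM)
        have : g⁻¹ * (g * a * g⁻¹) * g⁻¹⁻¹ = a := by group
        rwa [this] at h2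
      have hK1 := K_ne_bot_of_not_mem_sigmaA hKU ha hA
      have hTI := (Cfsg.Agent.S1371.result hG M hM K U hKU hK1).2
      refine ⟨g, ?_, rfl⟩
      have hX : a ∈ Cfsg.sigmaA0 M K \ Cfsg.sigmaA M U := ⟨ha, hA⟩
      have hinv : ∀ m ∈ M, ∀ x ∈ Cfsg.sigmaA0 M K \ Cfsg.sigmaA M U,
          m * x * m⁻¹ ∈ Cfsg.sigmaA0 M K \ Cfsg.sigmaA M U := by
        intro m hm x hx
        refine ⟨sigmaA0_conj_mem hm hx.1, ?_⟩
        intro h
        apply hx.2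
        have h2 := sigmaA_conj_mem hG hM hKU (M.inv_mem hm) h
        have : m⁻¹ * (m * x * m⁻¹) * m⁻¹⁻¹ = x := by group
        rwa [this] at h2
      have hN := normalizer_eq_of_invariant hG hM (X := Cfsg.sigmaA0 M K \ Cfsg.sigmaA M U)
        (fun x hx => hx.1.1.1) ⟨a, hX⟩ (fun h => h.2 (one_mem_sigmaA hG hM U)) hinv
      rw [← hN]
      by_contra hcon
      exact ha1 (hTI g hcon a hX ⟨hga, hA'⟩)

end Cfsg.Agent.Lib.Helper1.PF8
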