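import Mathlib
import Cfsg.Agent.Lib.Helper1.PF8.DadeD
import Cfsg.Agent.Lib.Helper1.BG14b.ConjEquiv
import Cfsg.Agent.S1351
import Cfsg.Agent.S1352
import Cfsg.Agent.S1375
import Cfsg.Agent.S1378
import Cfsg.Agent.S1432

set_option autoImplicit false

namespace Cfsg.Agent.Lib.Helper1.PF8

open Cfsg Cfsg.Agent.Lib.Helper18 Cfsg.Agent.Lib.Helper28.BGt
open Cfsg.Agent.Lib.Helper1.BG12b Cfsg.Agent.Lib.Helper1.BG14 Cfsg.Agent.Lib.Helper1.BG14b

variable {G : Type*} [Group G] [Finite G]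

def T1436a (G : Type*) [Group G] : Prop :=
  ∀ (M : Subgroup G), IsCoatom M → ∀ (x : G), x ∈ Cfsg.sigmaCore M → x ≠ 1 →
    ¬ Subgroup.centralizer ({x} : Set G) ≤ M → ∀ (N : Subgroup G), IsCoatom N →
    Subgroup.centralizer ({x} : Set G) ≤ N →
    (∃ p ∈ Cfsg.sigma N, p ∣ Nat.card M) → Cfsg.kappa M = ∅ ∧ Cfsg.tau2 M = ∅

theorem t1375 (hG : Cfsg.IsMinSimpleOddOrder G) : T1375 G :=
  fun M hM x hx hx1 hxM => Cfsg.Agent.S1375.result hG M hM x hx hx1 hxM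

theorem exists_sigmaDecomp (hG : Cfsg.IsMinSimpleOddOrder G) {M : Subgroup G} (hM : IsCoatom M) :
    ∃ K U : Subgroup G, Cfsg.IsSigmaDecomposition M K U := by
  obtain ⟨⟨K, hK⟩, hcyc⟩ := Cfsg.Agent.S1351.result hG M hM
  obtain ⟨⟨U, hKU⟩, -⟩ := Cfsg.Agent.S1352.result hG M hM K (hcyc K hK) hK
  exact ⟨K, U, hKU⟩

theorem no_sigma_prime_elt (hG : Cfsg.IsMinSimpleOddOrder G) {M : Subgroup G} (hM : IsCoatom M)
    (hκ : Cfsg.kappa M = ∅) (hτ : Cfsg.tau2 M = ∅) {b c : G} (hb : b ∈ Cfsg.sigmaCore M)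
    (hb1 : b ≠ 1) (hcM : c ∈ M) (hcb : c * b = b * c) (hc1 : c ≠ 1)
    (hcσ : ∀ p : ℕ, p.Prime → p ∣ orderOf c → p ∉ Cfsg.sigma M) : False := by
  have hmem : c ∈ M ⊓ Subgroup.centralizer ({b} : Set G) :=
    ⟨hcM, Subgroup.mem_centralizer_singleton_iff.mpr hcb⟩
  have hne : orderOf c ≠ 1 := fun h => hc1 (orderOf_eq_one_iff.mp h)
  obtain ⟨q, hq, hqd⟩ := Nat.exists_prime_and_dvd hne
  rcases Cfsg.Agent.S1432.result hG M hM b hb hb1 c hmem hc1 hcσ with ⟨h, -⟩ | ⟨h, -⟩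
  · have := h q hq hqd
    rw [hκ] at this
    exact this
  · have := h q hq hqd
    rw [hτ] at this
    exact this

theorem sigmaHat_sub_sigmaCore (hG : Cfsg.IsMinSimpleOddOrder G) {M : Subgroup G}
    (hM : IsCoatom M) (hκ : Cfsg.kappa M = ∅) (hτ : Cfsg.tau2 M = ∅) {b : G}
    (hb : b ∈ Cfsg.sigmaHat M) : b ∈ Cfsg.sigmaCore M := by
  by_contra hn
  obtain ⟨hbM, y, hy, hy1, hby⟩ := hb
  obtain ⟨k, hk1, hk2⟩ := exists_sigma_prime_part hG hM hbM hn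
  have hz1 : b ^ k ≠ 1 := by
    intro h
    apply hk1
    rw [h]
    exact Subgroup.one_mem _
  have hzy : b ^ k * y = y * b ^ k := by
    have hc : Commute b y := hby
    exact (hc.pow_left k).eq
  exact no_sigma_prime_elt hG hM hκ hτ hy hy1 (M.pow_mem hbM k) hzy hz1 hk2

theorem not_conj_of_cent (hG : Cfsg.IsMinSimpleOddOrder G) {M N : Subgroup G} (hM : IsCoatom M)
    {a : G} (ha : a ∈ Cfsg.sigmaCore M) (ha1 : a ≠ 1)
    (haM : ¬ Subgroup.centralizer ({a} : Set G) ≤ M) (hN : IsCoatom N)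
    (haN : Subgroup.centralizer ({a} : Set G) ≤ N) (g : G) : N ≠ conjSub g M := by
  intro e
  obtain ⟨N', ⟨hN', hCN'⟩, huniq, -, -, -, -, hlast⟩ := Cfsg.Agent.S1375.result hG M hM a ha ha1 haM
  have hNN : N = N' := huniq N hN haN
  obtain ⟨K', U', hKU'⟩ := exists_sigmaDecomp hG hN
  rw [← hNN] at hlast
  apply (hlast K' U' hKU').2.2
  have haN' : a ∈ N := haN (Subgroup.mem_centralizer_singleton_iff.mpr rfl)
  rw [e, sigmaCore_conjSub hG hM, mem_conjSub]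
  rw [e, mem_conjSub] at haN'
  apply mem_sigmaCore_of_conj hG hM (g := g) haN'
  have : g * (g⁻¹ * a * g) * g⁻¹ = a := by group
  rw [this]
  exact ha

theorem coprime_supportR (hG : Cfsg.IsMinSimpleOddOrder G) (h36 : T1436a G) {M N : Subgroup G}
    (hM : IsCoatom M) {a : G} (ha : a ∈ Cfsg.sigmaCore M) (ha1 : a ≠ 1)
    (haM : ¬ Subgroup.centralizer ({a} : Set G) ≤ M) (hN : IsCoatom N)
    (haN : Subgroup.centralizer ({a} : Set G) ≤ N) {b : G} (hb : b ∈ Cfsg.sigmaHat M)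
    (hb1 : b ≠ 1) :
    (Nat.card ↥(Cfsg.sigmaCore N ⊓ Subgroup.centralizer ({a} : Set G))).Coprime
      (Nat.card ↥(M ⊓ Subgroup.centralizer ({b} : Set G))) := by
  apply Nat.coprime_of_dvd
  intro q hq hq1 hq2
  haveI : Fact q.Prime := ⟨hq⟩
  have hqN : q ∈ Cfsg.sigma N :=
    prime_sigmaCore hG hN hq (hq1.trans (Subgroup.card_dvd_of_le inf_le_left))
  have hqM : q ∣ Nat.card M := hq2.trans (Subgroup.card_dvd_of_le inf_le_left)
  obtain ⟨hκ, hτ⟩ := h36 M hM a ha ha1 haM N hN haN ⟨q, hqN, hqM⟩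
  have hbs := sigmaHat_sub_sigmaCore hG hM hκ hτ hb
  obtain ⟨c, hco⟩ := exists_prime_orderOf_dvd_card' (G := ↥(M ⊓ Subgroup.centralizer ({b} : Set G))) q hq2
  have hco' : orderOf (c : G) = q := by rw [Subgroup.orderOf_coe]; exact hco
  have hc1 : (c : G) ≠ 1 := by
    intro h
    rw [h, orderOf_one] at hco'
    exact hq.one_lt.ne hco'
  have hqσ : q ∉ Cfsg.sigma M := by
    intro hqσ
    obtain ⟨g, hg⟩ := (Cfsg.Agent.S1378.result hG).2 M N hM hN ⟨q, hqσ, hqN⟩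
    exact not_conj_of_cent hG hM ha ha1 haM hN haN g hg
  apply no_sigma_prime_elt hG hM hκ hτ hbs hb1 c.2.1
    (Subgroup.mem_centralizer_singleton_iff.mp c.2.2) hc1
  intro p hp hpd
  rw [hco'] at hpd
  rw [(Nat.prime_dvd_prime_iff_eq hp hq).mp hpd]
  exact hqσ

end Cfsg.Agent.Lib.Helper1.PF8
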