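import Mathlib
import Cfsg.Agent.Lib.Helper1.PF8.DadeE

set_option autoImplicit false

namespace Cfsg.Agent.Lib.Helper1.PF8

open Cfsg Cfsg.Agent.Lib.Helper18 Cfsg.Agent.Lib.Helper28.BGt
open Cfsg.Agent.Lib.Helper1.BG12b Cfsg.Agent.Lib.Helper1.BG14 Cfsg.Agent.Lib.Helper1.BG14b

variable {G : Type*} [Group G] [Finite G]

theorem dade_core (hG : Cfsg.IsMinSimpleOddOrder G) (h36 : T1436a G) {M K U : Subgroup G}
    (hM : IsCoatom M) (hKU : Cfsg.IsSigmaDecomposition M K U) {A : Set G}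
    (hA1 : ∀ x ∈ Cfsg.sigmaCore M, x ≠ 1 → x ∈ A)
    (hA2 : ∀ a ∈ A, a ∈ Cfsg.sigmaA0 M K ∧ a ≠ 1)
    (hinv : ∀ m ∈ M, ∀ a ∈ A, m * a * m⁻¹ ∈ A) :
    Subgroup.normalizer A = M ∧ Cfsg.DadeHypothesis A M (Cfsg.supportR M) := by
  have hAM : A ⊆ (M : Set G) := fun a ha => (hA2 a ha).1.1.1
  have h1A : (1 : G) ∉ A := fun h => (hA2 1 h).2 rfl
  have hne : A.Nonempty := by
    obtain ⟨y, hy, hy1⟩ := sigmaCore_ne_bot' hG hM
    exact ⟨y, hA1 y hy hy1⟩
  refine ⟨normalizer_eq_of_invariant hG hM hAM hne h1A hinv, ?_⟩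
  have hcase : ∀ a ∈ A, ¬ Subgroup.centralizer ({a} : Set G) ≤ M → a ∈ Cfsg.sigmaCore M := by
    intro a ha hn
    by_contra hs
    exact hn (cent_le_of_not_sigmaCore hG hM hKU (hA2 a ha).1 hs)
  refine ⟨h1A, hAM, hinv, ?_, ?_, ?_, ?_, ?_, ?_⟩
  · intro a ha g hga
    exact fusion_sigmaA0 hG hM hKU (hA2 a ha).1 (hA2 a ha).2 (hA2 _ hga).1
  · intro a _
    exact supportR_le_centralizer' M a
  · intro a _ c hc u hu
    exact supportR_conj_mem' M a hc hu
  · intro a ha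
    by_cases hC : Subgroup.centralizer ({a} : Set G) ≤ M
    · rw [supportR_eq_bot_of_le hC, bot_inf_eq]
    · obtain ⟨N, hN, hCN, huniq, hR, -, hc, -⟩ :=
        supportR_spec (t1375 hG) hM (hcase a ha hC) (hA2 a ha).2 hC
      rw [hR, inf_comm]
      exact hc.2.2.1
  · intro a ha
    by_cases hC : Subgroup.centralizer ({a} : Set G) ≤ M
    · rw [supportR_eq_bot_of_le hC, bot_sup_eq]
      exact inf_eq_right.mpr hC
    · obtain ⟨N, hN, hCN, huniq, hR, -, hc, -⟩ :=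
        supportR_spec (t1375 hG) hM (hcase a ha hC) (hA2 a ha).2 hC
      rw [hR]
      apply le_antisymm (sup_le inf_le_right inf_le_right)
      intro c hcc
      obtain ⟨x, hx, y, hy, rfl⟩ := hc.2.2.2 c hcc
      exact Subgroup.mul_mem _ (Subgroup.mem_sup_right hx) (Subgroup.mem_sup_left hy)
  · intro a ha b hb
    by_cases hC : Subgroup.centralizer ({a} : Set G) ≤ M
    · rw [supportR_eq_bot_of_le hC, Subgroup.card_bot]
      exact Nat.coprime_one_left _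
    · obtain ⟨N, hN, hCN, huniq, hR, -, hc, -⟩ :=
        supportR_spec (t1375 hG) hM (hcase a ha hC) (hA2 a ha).2 hC
      rw [hR]
      exact coprime_supportR hG h36 hM (hcase a ha hC) (hA2 a ha).2 hC hN hCN
        (hA2 b hb).1.1 (hA2 b hb).2

end Cfsg.Agent.Lib.Helper1.PF8
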