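import Mathlib
import Cfsg.Agent.Lib.Helper1.PF8.DadeD
import Cfsg.Agent.Lib.Helper10.Sec16C
import Cfsg.Agent.Lib.Helper10.Sec16I
import Cfsg.Agent.Lib.Helper11.TypeFactsD
import Cfsg.Agent.S1365

set_option autoImplicit false

namespace Cfsg.Agent.Lib.Helper1.PF8

open Cfsg Cfsg.Agent.Lib.Helper18 Cfsg.Agent.Lib.Helper28.BGt
open Cfsg.Agent.Lib.Helper1.BG12b Cfsg.Agent.Lib.Helper1.BG14 Cfsg.Agent.Lib.Helper1.BG14b

variable {G : Type*} [Group G] [Finite G]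

theorem sigmaA_sub_sigmaA0 (hG : Cfsg.IsMinSimpleOddOrder G) {M K U : Subgroup G} (hM : IsCoatom M)
    (hKU : Cfsg.IsSigmaDecomposition M K U) {a : G} (ha : a ∈ Cfsg.sigmaA M U) :
    a ∈ Cfsg.sigmaA0 M K := by
  refine ⟨ha.1, ?_⟩
  rintro ⟨k, hk, hk1, m, hm, e⟩
  apply hk1
  have hc := Cfsg.Agent.Lib.Helper10.Sec16.compl_K hG hM hKU
  have hN := decomp_normal hG hM (Hκ_of hG hM hKU) hKU
  have h1 : k ∈ U ⊔ Cfsg.sigmaCore M := by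
    have h2 := conj_mem_of_le_normalizer hN (M.inv_mem hm) ha.2
    have : m⁻¹ * a * m⁻¹⁻¹ = k := by rw [e]; group
    rwa [this] at h2
  have h3 : k ∈ (U ⊔ Cfsg.sigmaCore M) ⊓ K := ⟨h1, hk⟩
  rw [hc.2.2.1, Subgroup.mem_bot] at h3
  exact h3

theorem derived_le_USigma (hG : Cfsg.IsMinSimpleOddOrder G) {M K U : Subgroup G} (hM : IsCoatom M)
    (hKU : Cfsg.IsSigmaDecomposition M K U) : ⁅M, M⁆ ≤ U ⊔ Cfsg.sigmaCore M := by
  by_cases hK : K = ⊥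
  · rw [USigma_eq_of_K_bot hKU hK]
    exact Subgroup.commutator_le_self M
  · rw [(Cfsg.Agent.S1365.result hG M hM K U hKU hK).1]

theorem mem_sigmaA_of_derived (hG : Cfsg.IsMinSimpleOddOrder G) {M K U : Subgroup G}
    (hM : IsCoatom M) (hKU : Cfsg.IsSigmaDecomposition M K U) {a x : G} (ha : a ∈ ⁅M, M⁆)
    (hx : x ∈ Cfsg.sigmaCore M) (hx1 : x ≠ 1) (hax : a * x = x * a) : a ∈ Cfsg.sigmaA M U :=
  ⟨⟨Subgroup.commutator_le_self M ha, x, hx, hx1, hax⟩, derived_le_USigma hG hM hKU ha⟩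

theorem mem_sigmaA_of_K_bot {M K U : Subgroup G}
    (hKU : Cfsg.IsSigmaDecomposition M K U) (hK : K = ⊥) {a x : G} (ha : a ∈ M)
    (hx : x ∈ Cfsg.sigmaCore M) (hx1 : x ≠ 1) (hax : a * x = x * a) : a ∈ Cfsg.sigmaA M U := by
  refine ⟨⟨ha, x, hx, hx1, hax⟩, ?_⟩
  rw [SetLike.mem_coe, USigma_eq_of_K_bot hKU hK]
  exact ha

theorem coprime_K_sigmaCore (hG : Cfsg.IsMinSimpleOddOrder G) {M K U : Subgroup G}
    (hM : IsCoatom M) (hKU : Cfsg.IsSigmaDecomposition M K U) :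
    (Nat.card (Cfsg.sigmaCore M)).Coprime (Nat.card K) :=
  Nat.Coprime.coprime_dvd_left (Subgroup.card_dvd_of_le le_sup_right) (coprime_USigma_K hG hM hKU)

theorem typeP_What_mem (hG : Cfsg.IsMinSimpleOddOrder G) {M K U : Subgroup G}
    (hM : IsCoatom M) (hKU : Cfsg.IsSigmaDecomposition M K U) {W₁ U' W₂ : Subgroup G}
    (hP : Cfsg.IsTypePWith M W₁ U' W₂) {m w : G} (hm : m ∈ M) (hw : w ∈ W₁ ⊔ W₂)
    (hw1 : w ∉ W₁) : m * w * m⁻¹ ∈ Cfsg.sigmaA0 M K ∧ m * w * m⁻¹ ≠ 1 := by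
  obtain ⟨hW₁1, hW₂1, hinf, hcomm, hcyc, -⟩ := hP.selfNormalizing
  have hW₁M : W₁ ≤ M := hP.W₁_compl.2.1
  have hFσ := Cfsg.Agent.Lib.Helper13.BG14.bg14_fittingHallOf_le_sigmaCore hG hM
  have hW₂σ : W₂ ≤ Cfsg.sigmaCore M := (hP.W₂_le.trans inf_le_left).trans hFσ
  have hW₂M : W₂ ≤ M := hW₂σ.trans (sigmaCore_le M)
  have hwM : w ∈ M := (sup_le hW₁M hW₂M) hw
  obtain ⟨w₁, hw₁, w₂, hw₂, rfl⟩ :=
    Cfsg.Agent.Lib.Helper18.BGTwelveD.mem_sup_of_commute hcomm hw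
  have hw₂1 : w₂ ≠ 1 := by
    rintro rfl
    apply hw1
    rwa [mul_one]
  have hne1 : w₁ * w₂ ≠ 1 := by
    intro h
    apply hw1
    rw [h]
    exact Subgroup.one_mem _
  have hhat : w₁ * w₂ ∈ Cfsg.sigmaHat M := by
    refine ⟨hwM, w₂, hW₂σ hw₂, hw₂1, ?_⟩
    have hc : Commute w₁ w₂ := hcomm w₁ hw₁ w₂ hw₂
    exact (hc.mul_left (Commute.refl w₂)).eq
  constructor
  · refine ⟨sigmaHat_conj_mem hm hhat, ?_⟩
    rintro ⟨k, hk, hk1, n, hn, e⟩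
    apply hw₂1
    have hpow : (w₁ * w₂) ^ Nat.card K = 1 := by
      have h1 : w₁ * w₂ = (m⁻¹ * n) * k * (m⁻¹ * n)⁻¹ := by
        have : w₁ * w₂ = m⁻¹ * (m * (w₁ * w₂) * m⁻¹) * m := by group
        rw [this, e]; group
      rw [h1, conj_pow]
      have : k ^ Nat.card K = 1 := by
        have := pow_card_eq_one' (G := K) (x := ⟨k, hk⟩)
        exact congrArg Subtype.val this
      rw [this]; group
    have hc : Commute w₁ w₂ := hcomm w₁ hw₁ w₂ hw₂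
    rw [hc.mul_pow] at hpow
    have h2 : w₂ ^ Nat.card K ∈ W₁ ⊓ W₂ := by
      refine ⟨?_, Subgroup.pow_mem _ hw₂ _⟩
      have : w₂ ^ Nat.card K = (w₁ ^ Nat.card K)⁻¹ := eq_inv_of_mul_eq_one_right hpow
      rw [this]
      exact Subgroup.inv_mem _ (Subgroup.pow_mem _ hw₁ _)
    rw [hinf, Subgroup.mem_bot] at h2
    have h3 : orderOf w₂ ∣ Nat.card K := orderOf_dvd_of_pow_eq_one h2
    have h4 : orderOf w₂ ∣ Nat.card (Cfsg.sigmaCore M) :=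
      Subgroup.orderOf_dvd_natCard _ (hW₂σ hw₂)
    have h5 := Nat.eq_one_of_dvd_coprimes (coprime_K_sigmaCore hG hM hKU) h4 h3
    exact orderOf_eq_one_iff.mp h5
  · intro h
    apply hne1
    have : w₁ * w₂ = m⁻¹ * (m * (w₁ * w₂) * m⁻¹) * m := by group
    rw [this, h]; group

end Cfsg.Agent.Lib.Helper1.PF8
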