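import Mathlib
import Cfsg.Agent.Lib.Helper1.PF8.DictA
import Cfsg.Agent.Lib.Helper11.TypeFactsB

set_option autoImplicit false

namespace Cfsg.Agent.Lib.Helper1.PF8

open Cfsg Cfsg.Agent.Lib.Helper18 Cfsg.Agent.Lib.Helper28.BGt
open Cfsg.Agent.Lib.Helper1.BG12b Cfsg.Agent.Lib.Helper1.BG14 Cfsg.Agent.Lib.Helper1.BG14b

variable {G : Type*} [Group G] [Finite G]

structure Sandwich (M K : Subgroup G) (A : Set G) : Prop where
  lower : ∀ x ∈ Cfsg.sigmaCore M, x ≠ 1 → x ∈ A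
  upper : ∀ a ∈ A, a ∈ Cfsg.sigmaA0 M K ∧ a ≠ 1
  inv : ∀ m ∈ M, ∀ a ∈ A, m * a * m⁻¹ ∈ A

theorem conj_ne_one {m a : G} (ha : a ≠ 1) : m * a * m⁻¹ ≠ 1 := by
  intro h
  apply ha
  have : a = m⁻¹ * (m * a * m⁻¹) * m := by group
  rw [this, h]; group

theorem mem_sigmaA_of_sigmaCore {M U : Subgroup G} {a : G} (ha : a ∈ Cfsg.sigmaCore M)
    (ha1 : a ≠ 1) : a ∈ Cfsg.sigmaA M U :=
  ⟨⟨sigmaCore_le M ha, a, ha, ha1, rfl⟩, Subgroup.mem_sup_right ha⟩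

theorem sandwich_typeA1 (hG : Cfsg.IsMinSimpleOddOrder G) {M K U : Subgroup G} (hM : IsCoatom M)
    (hKU : Cfsg.IsSigmaDecomposition M K U) (hcore : Cfsg.typeCore M = Cfsg.sigmaCore M) :
    Sandwich M K (Cfsg.typeA1 M) := by
  unfold Cfsg.typeA1
  rw [hcore]
  refine ⟨?_, ?_, ?_⟩
  · intro x hx hx1
    exact ⟨hx, hx1⟩
  · rintro a ⟨ha, ha1⟩
    exact ⟨sigmaA_sub_sigmaA0 hG hM hKU (mem_sigmaA_of_sigmaCore ha ha1), ha1⟩
  · rintro m hm a ⟨ha, ha1⟩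
    exact ⟨conj_mem_of_le_normalizer (le_normalizer_sigmaCore M) hm ha, conj_ne_one ha1⟩

theorem K_bot_of_typeI (hG : Cfsg.IsMinSimpleOddOrder G) {M K U : Subgroup G} (hM : IsCoatom M)
    (hKU : Cfsg.IsSigmaDecomposition M K U) (hI : Cfsg.IsOfTypeI M) : K = ⊥ := by
  have hκ := Cfsg.Agent.Lib.Helper11.TypeFacts.typeI_kappa_empty hG hM hI
  by_contra hK
  have hc : Nat.card K ≠ 1 := fun h => hK (Subgroup.card_eq_one.mp h)
  obtain ⟨p, hp, hpd⟩ := Nat.exists_prime_and_dvd hc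
  have := hKU.hall.2.1 p hp hpd
  rw [hκ] at this
  exact this

theorem sandwich_typeA (hG : Cfsg.IsMinSimpleOddOrder G) {M K U : Subgroup G} (hM : IsCoatom M)
    (hKU : Cfsg.IsSigmaDecomposition M K U) (hcore : Cfsg.typeCore M = Cfsg.sigmaCore M) :
    Sandwich M K (Cfsg.typeA M) := by
  unfold Cfsg.typeA
  by_cases hI : Cfsg.IsOfTypeI M
  · rw [if_pos hI]
    have hF := Cfsg.Agent.Lib.Helper11.TypeFacts.typeI_fittingHallOf_eq hG hM hI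
    have hK := K_bot_of_typeI hG hM hKU hI
    rw [hF]
    refine ⟨?_, ?_, ?_⟩
    · intro x hx hx1
      exact ⟨sigmaCore_le M hx, hx1, x, hx, hx1, rfl⟩
    · rintro a ⟨haM, ha1, x, hx, hx1, hax⟩
      exact ⟨sigmaA_sub_sigmaA0 hG hM hKU (mem_sigmaA_of_K_bot hKU hK haM hx hx1 hax), ha1⟩
    · rintro m hm a ⟨haM, ha1, x, hx, hx1, hax⟩
      have h := sigmaHat_conj_mem hm (⟨haM, x, hx, hx1, hax⟩ : a ∈ Cfsg.sigmaHat M)
      exact ⟨h.1, conj_ne_one ha1, h.2⟩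
  · rw [if_neg hI, hcore]
    refine ⟨?_, ?_, ?_⟩
    · intro x hx hx1
      exact ⟨Cfsg.Agent.Lib.Helper10.Sec16.sigmaCore_le_derived hG hM hx, hx1, x, hx, hx1, rfl⟩
    · rintro a ⟨haD, ha1, x, hx, hx1, hax⟩
      exact ⟨sigmaA_sub_sigmaA0 hG hM hKU (mem_sigmaA_of_derived hG hM hKU haD hx hx1 hax), ha1⟩
    · rintro m hm a ⟨haD, ha1, x, hx, hx1, hax⟩
      have h := sigmaHat_conj_mem hm
        (⟨Subgroup.commutator_le_self M haD, x, hx, hx1, hax⟩ : a ∈ Cfsg.sigmaHat M)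
      exact ⟨conj_mem_of_le_normalizer (Cfsg.Agent.Lib.Helper10.Sec16.le_normalizer_derived M) hm haD,
        conj_ne_one ha1, h.2⟩

theorem sandwich_typeA0 (hG : Cfsg.IsMinSimpleOddOrder G) {M K U : Subgroup G} (hM : IsCoatom M)
    (hKU : Cfsg.IsSigmaDecomposition M K U) (hcore : Cfsg.typeCore M = Cfsg.sigmaCore M) :
    Sandwich M K (Cfsg.typeA0 M) := by
  have hA := sandwich_typeA hG hM hKU hcore
  unfold Cfsg.typeA0
  refine ⟨?_, ?_, ?_⟩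
  · intro x hx hx1
    exact Or.inl (hA.lower x hx hx1)
  · rintro a (ha | ⟨-, W₁, U', W₂, hP, m, hm, w, hw, hw1, -, rfl⟩)
    · exact hA.upper a ha
    · exact typeP_What_mem hG hM hKU hP hm hw hw1
  · rintro n hn a (ha | ⟨hI, W₁, U', W₂, hP, m, hm, w, hw, hw1, hw2, rfl⟩)
    · exact Or.inl (hA.inv n hn a ha)
    · refine Or.inr ⟨hI, W₁, U', W₂, hP, n * m, M.mul_mem hn hm, w, hw, hw1, hw2, ?_⟩
      group

end Cfsg.Agent.Lib.Helper1.PF8
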