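import Mathlib
import Cfsg.Agent.Lib.Helper1.PF8.DictB
import Cfsg.Agent.Lib.Helper1.PF8.DadeF
import Cfsg.Agent.S1382
import Cfsg.Agent.S1436
import Cfsg.Agent.S1437

set_option autoImplicit false

namespace Cfsg.Agent.Lib.Helper1.PF8

open Cfsg Cfsg.Agent.Lib.Helper18 Cfsg.Agent.Lib.Helper28.BGt
open Cfsg.Agent.Lib.Helper1.BG12b Cfsg.Agent.Lib.Helper1.BG14 Cfsg.Agent.Lib.Helper1.BG14b

variable {G : Type*} [Group G] [Finite G]

theorem typeCore_eq (hG : Cfsg.IsMinSimpleOddOrder G) {M K U : Subgroup G} (hM : IsCoatom M)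
    (hKU : Cfsg.IsSigmaDecomposition M K U) : Cfsg.typeCore M = Cfsg.sigmaCore M := by
  have h82 := Cfsg.Agent.S1382.result hG M hM K U hKU
  unfold Cfsg.typeCore
  by_cases h : Cfsg.IsOfTypeIII M ∨ Cfsg.IsOfTypeIV M
  · rw [if_pos h]
    obtain ⟨hK1, hU, -⟩ := h82.mp h
    rw [(Cfsg.Agent.S1365.result hG M hM K U hKU hK1).1, hU, bot_sup_eq]
  · rw [if_neg h]
    by_contra hne
    obtain ⟨hU, -, hKp, -⟩ := Cfsg.Agent.S1437.result hG M hM K U hKU hne
    apply h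
    apply h82.mpr
    refine ⟨?_, hU, hne⟩
    intro hK
    rw [hK, Subgroup.card_bot] at hKp
    exact Nat.not_prime_one hKp

theorem t1436a (hG : Cfsg.IsMinSimpleOddOrder G) : T1436a G :=
  fun M hM x hx hx1 hxM N hN hxN => (Cfsg.Agent.S1436.result hG M hM x hx hx1 hxM N hN hxN).1

theorem Sandwich.dade (hG : Cfsg.IsMinSimpleOddOrder G) {M K U : Subgroup G} (hM : IsCoatom M)
    (hKU : Cfsg.IsSigmaDecomposition M K U) {A : Set G} (hS : Sandwich M K A) :
    Subgroup.normalizer A = M ∧ Cfsg.DadeHypothesis A M (Cfsg.supportR M) :=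
  dade_core hG (t1436a hG) hM hKU hS.lower hS.upper hS.inv

end Cfsg.Agent.Lib.Helper1.PF8
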