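import Mathlib
import Cfsg.Agent.Lib.Helper1.PF8.DictB
import Cfsg.Agent.Lib.Helper10.Sec16D
import Cfsg.Agent.Lib.Helper11.TypeFactsD

set_option autoImplicit false

namespace Cfsg.Agent.Lib.Helper1.PF8

open Cfsg Cfsg.Agent.Lib.Helper18 Cfsg.Agent.Lib.Helper28.BGt
open Cfsg.Agent.Lib.Helper1.BG12b Cfsg.Agent.Lib.Helper1.BG14 Cfsg.Agent.Lib.Helper1.BG14b

variable {G : Type*} [Group G] [Finite G]

theorem Sandwich.nonempty (hG : Cfsg.IsMinSimpleOddOrder G) {M K : Subgroup G} (hM : IsCoatom M)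
    {A : Set G} (hS : Sandwich M K A) : A.Nonempty := by
  obtain ⟨y, hy, hy1⟩ := sigmaCore_ne_bot' hG hM
  exact ⟨y, hS.lower y hy hy1⟩

theorem Sandwich.normalizer_eq (hG : Cfsg.IsMinSimpleOddOrder G) {M K : Subgroup G}
    (hM : IsCoatom M) {A : Set G} (hS : Sandwich M K A) : Subgroup.normalizer A = M :=
  normalizer_eq_of_invariant hG hM (fun a ha => (hS.upper a ha).1.1.1) (hS.nonempty hG hM)
    (fun h => (hS.upper 1 h).2 rfl) hS.inv

theorem Sandwich.ti (hG : Cfsg.IsMinSimpleOddOrder G) {M K U : Subgroup G}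
    (hM : IsCoatom M) (hKU : Cfsg.IsSigmaDecomposition M K U) {A : Set G} (hS : Sandwich M K A)
    (hcent : ∀ a ∈ A, Subgroup.centralizer ({a} : Set G) ≤ M) :
    Cfsg.IsTISubset A ∧ Subgroup.normalizer A = M := by
  have hN := hS.normalizer_eq hG hM
  refine ⟨?_, hN⟩
  intro g hg a ha hga
  exfalso
  apply hg
  rw [hN]
  obtain ⟨m, hm, e⟩ := fusion_sigmaA0 hG hM hKU (hS.upper a ha).1 (hS.upper a ha).2
    (hS.upper _ hga).1
  have hc : m⁻¹ * g ∈ Subgroup.centralizer ({a} : Set G) := by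
    rw [Subgroup.mem_centralizer_singleton_iff]
    have : m⁻¹ * g * a = m⁻¹ * (g * a * g⁻¹) * g := by group
    rw [this, ← e]; group
  have := M.mul_mem hm (hcent a ha hc)
  rwa [mul_inv_cancel_left] at this

theorem cent_le_of_fitting_TI (hG : Cfsg.IsMinSimpleOddOrder G) {M : Subgroup G}
    (hM : IsCoatom M) (hTI : Cfsg.IsTISubset (Cfsg.fittingOf M : Set G)) {a : G}
    (ha : a ∈ Cfsg.fittingOf M) (ha1 : a ≠ 1) : Subgroup.centralizer ({a} : Set G) ≤ M := by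
  have hFM : Cfsg.fittingOf M ≤ M := by
    unfold Cfsg.fittingOf
    exact Subgroup.map_subtype_le _
  have hT1 : Cfsg.fittingOf M ≠ ⊥ := by
    intro h
    rw [h, Subgroup.mem_bot] at ha
    exact ha1 ha
  have hT2 : Cfsg.fittingOf M ≠ ⊤ := by
    intro h
    apply hM.1
    rw [eq_top_iff, ← h]
    exact hFM
  haveI : (Cfsg.fittingSubgroup ↥M).Normal := Cfsg.Agent.Lib.Helper1.fittingSubgroup_normal
  have hle : M ≤ Subgroup.normalizer ((Cfsg.fittingOf M : Subgroup G) : Set G) :=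
    Cfsg.Agent.Lib.Helper1.BG12.map_normal_le_normalizer M (Cfsg.fittingSubgroup ↥M)
  have hN := Cfsg.Agent.Lib.Helper11.MaxSubB.normalizer_eq_of_coatom hG M hM _ hT1 hT2 hle
  intro c hc
  rw [Subgroup.mem_centralizer_singleton_iff] at hc
  rw [← hN]
  by_contra hcon
  apply ha1
  apply hTI c hcon a ha
  have : c * a * c⁻¹ = a := by rw [hc]; group
  rw [this]
  exact ha

theorem typeII_core (hG : Cfsg.IsMinSimpleOddOrder G) {M : Subgroup G} (hM : IsCoatom M)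
    (hII : Cfsg.IsOfTypeII M) : Cfsg.typeCore M = Cfsg.sigmaCore M := by
  unfold Cfsg.typeCore
  rw [if_neg (not_or.mpr ⟨Cfsg.Agent.Lib.Helper11.TypeFacts.typeII_not_III hG hM hII,
    Cfsg.Agent.Lib.Helper11.TypeFacts.typeII_not_IV hG hM hII⟩)]
  exact Cfsg.Agent.Lib.Helper11.TypeFacts.typeII_fittingHallOf_eq hG hM hII

theorem typeII_cent (hG : Cfsg.IsMinSimpleOddOrder G) {M K U : Subgroup G} (hM : IsCoatom M)
    (hKU : Cfsg.IsSigmaDecomposition M K U) (hII : Cfsg.IsOfTypeII M) {A : Set G}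
    (hS : Sandwich M K A) : ∀ a ∈ A, Subgroup.centralizer ({a} : Set G) ≤ M := by
  intro a ha
  by_cases hs : a ∈ Cfsg.sigmaCore M
  · have hF := Cfsg.Agent.Lib.Helper11.TypeFacts.typeII_fittingHallOf_eq hG hM hII
    obtain ⟨W₁, U', W₂, -, -, -, hTI, -⟩ := hII
    apply cent_le_of_fitting_TI hG hM hTI _ (hS.upper a ha).2
    apply Cfsg.Agent.Lib.Helper10.Sec16.fittingHallOf_le_fittingOf M
    rw [hF]
    exact hs
  · exact cent_le_of_not_sigmaCore hG hM hKU (hS.upper a ha).1 hs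

end Cfsg.Agent.Lib.Helper1.PF8
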